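import Groth.Agent.DecShLib.Basic
import Groth.Agent.CurvLib.Finite0
import Groth.Agent.CurvLib.Divisor
import Groth.Agent.IntMultLib.Main
import Groth.Prelude.Def_TFOne

/-!
# Torsion free quotients of rank one sheaves on subcurves
-/

set_option autoImplicit false
set_option linter.style.haveILetI false
set_option linter.unusedSectionVars false

universe u

open CategoryTheory CategoryTheory.Limits AlgebraicGeometry TopologicalSpace
open DevissLib IntMultLib

noncomputable section

namespace TFQuotLib

variable {X : Scheme.{u}}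

theorem mem_genericPoints {η : X} (h : ∀ z, z ⤳ η → z = η) : η ∈ genericPoints X := by
  obtain ⟨C, hC, hηC⟩ := exists_mem_irreducibleComponents_subset_of_isIrreducible _
    (isIrreducible_singleton (x := η)).closure
  have hg := hC.1.isGenericPoint_genericPoint (isClosed_of_mem_irreducibleComponents C hC)
  have e : hC.1.genericPoint = η := h _ (hg.specializes (hηC (subset_closure rfl)))
  show closure {η} ∈ irreducibleComponents X
  rw [← e, hg.def]
  exact hC

theorem eq_of_specializes_generic {η z : X} (hη : η ∈ genericPoints X) (h : z ⤳ η) : z = η := by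
  have h1 : closure ({η} : Set X) ⊆ closure {z} :=
    closure_minimal (Set.singleton_subset_iff.mpr (specializes_iff_mem_closure.mp h)) isClosed_closure
  have h2 : closure ({z} : Set X) ⊆ closure {η} := hη.2 isIrreducible_singleton.closure h1
  exact (h.antisymm (specializes_iff_mem_closure.mpr (h2 (subset_closure rfl)))).eq

variable [AlgebraicGeometry.IsNoetherian X] [IsReduced X]

/-- An associated point of a submodule of a torsion free module is generic. -/
theorem asso_generic {G K : X.Modules} (hG : TorSh.IsTorsionFree G) (ι : K ⟶ G) [Mono ι] {η : X}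
    (h : DevissLib.Asso K η) : η ∈ genericPoints X :=
  mem_genericPoints fun _ => DecShLib.eq_of_specializes_asso hG (h.of_mono ι)

theorem isZero_of_generic {G K : X.Modules} (hG : TorSh.IsTorsionFree G) (ι : K ⟶ G) [Mono ι]
    (hK : Coh.IsCoh K) (h : ∀ η ∈ genericPoints X, η ∉ CohB1.support K) : IsZero K := by
  refine isZero_of_support_empty (Set.eq_empty_of_forall_notMem fun x hx => ?_)
  obtain ⟨η, hη⟩ := DevissLib.exists_asso hK hx
  exact h η (asso_generic hG ι hη) hη.mem_support

/-- A morphism from a torsion free module injective at the generic points is a monomorphism. -/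
theorem mono_of_generic {G H : X.Modules} (φ : G ⟶ H) (hG : Coh.IsCoh G) (htf : TorSh.IsTorsionFree G)
    (hH : Coh.IsQCoh H) (h : ∀ η ∈ genericPoints X, Function.Injective ((St η).map φ).hom) : Mono φ := by
  refine Preadditive.mono_of_isZero_kernel φ (isZero_of_generic htf (kernel.ι φ)
    (QCohLib.isCoh_kernel φ hG hH) fun η hη hs => ?_)
  obtain ⟨v, hv⟩ := (mem_support_iff_nonzero _ η).mp hs
  have hi : Function.Injective ((St η).map (kernel.ι φ)).hom :=
    (ModuleCat.mono_iff_injective _).mp inferInstance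
  refine hv (hi (h η hη ?_))
  rw [← ModuleCat.comp_apply, ← Functor.map_comp, kernel.condition, Functor.map_zero, map_zero, map_zero]
  rfl

/-- A morphism to a torsion free module vanishing at the generic points vanishes. -/
theorem eq_zero_of_generic {A G : X.Modules} (φ : A ⟶ G) (hA : Coh.IsQCoh A) (hG : Coh.IsCoh G)
    (htf : TorSh.IsTorsionFree G) (h : ∀ η ∈ genericPoints X, (St η).map φ = 0) : φ = 0 := by
  haveI := hG.1
  haveI := hA
  haveI : Coh.IsQCoh (cokernel φ) := QCohLib.isQCoh_cokernel φ
  have hI : Coh.IsCoh (image φ) := QCohLib.isCoh_of_iso (Abelian.imageIsoImage φ)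
    (QCohLib.isCoh_kernel _ hG inferInstance)
  have h0 : IsZero (image φ) := by
    refine isZero_of_generic htf (image.ι φ) hI fun η hη hs => ?_
    obtain ⟨v, hv⟩ := (mem_support_iff_nonzero _ η).mp hs
    obtain ⟨w, hw⟩ := (ModuleCat.epi_iff_surjective ((St η).map (factorThruImage φ))).mp inferInstance v
    have hi : Function.Injective ((St η).map (image.ι φ)).hom :=
      (ModuleCat.mono_iff_injective _).mp inferInstance
    refine hv (hi ?_)
    rw [← hw, ← ModuleCat.comp_apply, ← Functor.map_comp, image.fac, h η hη, map_zero]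
    rfl
  rw [← image.fac φ, h0.eq_of_tgt (factorThruImage φ) 0, zero_comp]

variable {M : X.Modules} {Z : Set X} {G : X.Modules} {π : M ⟶ G}

theorem len_rkOne (hM : TFOne.IsTF1 X M) {η : X} (hη : η ∈ genericPoints X) : len M η = 1 := by
  obtain ⟨e⟩ := hM.2.2 η hη
  have : Ring.KrullDimLE 0 (X.presheaf.stalk η) := by
    refine Ring.krullDimLE_zero_iff.mpr fun q hq => ?_
    have hz : X.fromSpecStalk η ⟨q, hq⟩ = η := eq_of_specializes_generic hη (by
      have : X.fromSpecStalk η ⟨q, hq⟩ ∈ Set.range (X.fromSpecStalk η) := ⟨_, rfl⟩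
      rwa [Scheme.range_fromSpecStalk] at this)
    have : (⟨q, hq⟩ : PrimeSpectrum (X.presheaf.stalk η)) = IsLocalRing.closedPoint _ :=
      (X.fromSpecStalk η).isEmbedding.injective (hz.trans Scheme.fromSpecStalk_closedPoint.symm)
    rw [show q = IsLocalRing.maximalIdeal _ from congrArg PrimeSpectrum.asIdeal this]
    exact IsLocalRing.maximalIdeal.isMaximal _
  have hF : IsField (X.presheaf.stalk η) := Ring.KrullDimLE.isField_of_isReduced
  rw [len, e.length_eq]
  letI := hF.toField
  exact Module.length_eq_one_iff.mpr inferInstance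

/-- Lengths of the torsion free quotient at generic points. -/
theorem len_quot [DecidablePred (· ∈ Z)] (hM : TFOne.IsTF1 X M) (hG : TFOne.IsQuotOn X M Z G π) {η : X}
    (hη : η ∈ genericPoints X) : len G η = if η ∈ Z then 1 else 0 := by
  split_ifs with h
  · obtain ⟨he, -, -, hs⟩ := hG
    haveI := he
    have hle : len G η ≤ len M η := Module.length_le_of_surjective ((St η).map π).hom
      ((ModuleCat.epi_iff_surjective _).mp inferInstance)
    rw [len_rkOne hM hη] at hle
    refine le_antisymm hle (ENat.one_le_iff_ne_zero.mpr fun h0 => ?_)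
    have : η ∈ CohB1.support G := hs ▸ h
    exact this (Module.length_eq_zero_iff.mp h0)
  · exact len_eq_zero (by rw [hG.2.2.2]; exact h)

/-- At a generic point of `Z` the projection is bijective. -/
theorem injective_quot (hM : TFOne.IsTF1 X M) (hG : TFOne.IsQuotOn X M Z G π) {η : X}
    (hη : η ∈ genericPoints X) (hZ : η ∈ Z) : Function.Injective ((St η).map π).hom := by
  classical
  haveI := hG.1
  have hs : Function.Surjective ((St η).map π).hom := (ModuleCat.epi_iff_surjective _).mp inferInstance
  rw [← LinearMap.ker_eq_bot]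
  have h := Module.length_eq_add_of_exact (LinearMap.ker ((St η).map π).hom).subtype ((St η).map π).hom
    Subtype.val_injective hs (LinearMap.exact_subtype_ker_map _)
  change len M η = _ + len G η at h
  rw [len_rkOne hM hη, len_quot hM hG hη, if_pos hZ] at h
  have h0 : Module.length (X.presheaf.stalk η) (LinearMap.ker ((St η).map π).hom) = 0 :=
    (ENat.add_right_injective_of_ne_top ENat.one_ne_top ((add_comm _ _).trans (h.symm.trans (add_zero _).symm)))
  exact Submodule.subsingleton_iff_eq_bot.mp (Module.length_eq_zero_iff.mp h0)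

/-- A larger subcurve has a larger quotient. -/
theorem exists_factor (hM : TFOne.IsTF1 X M) {Z' : Set X} {G' : X.Modules} {π' : M ⟶ G'}
    (hG : TFOne.IsQuotOn X M Z G π) (hG' : TFOne.IsQuotOn X M Z' G' π') (hle : Z' ⊆ Z) :
    ∃ r : G ⟶ G', π ≫ r = π' := by
  haveI := hG.1
  haveI : Coh.IsQCoh M := hM.1.1
  haveI : Coh.IsQCoh G := hG.2.1.1
  have h0 : kernel.ι π ≫ π' = 0 := by
    refine eq_zero_of_generic _ (QCohLib.isQCoh_kernel π) hG'.2.1 hG'.2.2.1 fun η hη => ?_
    by_cases h : η ∈ Z
    · ext v
      have hv : ((St η).map (kernel.ι π)).hom v = 0 := injective_quot hM hG hη h (by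
        rw [← ModuleCat.comp_apply, ← Functor.map_comp, kernel.condition, Functor.map_zero, map_zero]
        rfl)
      rw [Functor.map_comp, ModuleCat.comp_apply, hv, map_zero]
      rfl
    · haveI : Subsingleton ((St η).obj G') :=
        not_not.mp fun hh => h (hle (hG'.2.2.2 ▸ (hh : η ∈ CohB1.support G')))
      ext v
      exact Subsingleton.elim _ _
  exact ⟨(Abelian.epiIsCokernelOfKernel _ (kernelIsKernel π)).desc (CokernelCofork.ofπ π' h0),
    (Abelian.epiIsCokernelOfKernel _ (kernelIsKernel π)).fac (CokernelCofork.ofπ π' h0) WalkingParallelPair.one⟩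

omit [IsReduced X] in
theorem len_biprod (A B : X.Modules) (η : X) : len (A ⊞ B) η = len A η + len B η :=
  len_add (S := ShortComplex.mk (biprod.inl : A ⟶ A ⊞ B) biprod.snd biprod.inl_snd)
    (ShortComplex.Splitting.ofHasBinaryBiproduct A B).shortExact η

theorem arith (p q w : Prop) [Decidable p] [Decidable q] [Decidable (p ∨ q)] [Decidable w] (hw : w ↔ p ∧ q) (l : ℕ∞)
    (h : (if p then (1 : ℕ∞) else 0) + (if q then 1 else 0) =
      (if p ∨ q then 1 else 0) + (l + (if w then 1 else 0))) : l = 0 := by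
  cases l with
  | top => split_ifs at h <;> simp_all
  | coe l => split_ifs at h <;> simp_all <;> norm_cast at h ⊢ <;> omega

variable {k : Type u} [Field k] [X.Over (Spec (CommRingCat.of k))]
  [IsProper (X ↘ Spec (CommRingCat.of k))]

omit [AlgebraicGeometry.IsNoetherian X] [IsReduced X] in
/-- A module vanishing at the generic points of a curve has nonnegative Euler characteristic. -/
theorem euler_nonneg_of_generic (hd : topologicalKrullDim X ≤ 1) {R : X.Modules} (hR : Coh.IsCoh R)
    (h : ∀ η ∈ genericPoints X, η ∉ CohB1.support R) :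
    0 ≤ Curv2.euler k X R := by
  have hd0 : topologicalKrullDim (CohB1.support R) ≤ 0 := by
    refine CurvLib.dim_le_zero_of_no_maximal hd (QCohLib.isClosed_support R hR.2) fun x hx => ?_
    by_contra hne
    push Not at hne
    exact h x (mem_genericPoints hne) hx
  rw [CurvLib.euler_eq_h0 hR hd0]
  exact Int.natCast_nonneg _

omit [AlgebraicGeometry.IsNoetherian X] [IsReduced X] [IsProper (X ↘ Spec (CommRingCat.of k))] in
theorem dim_le_of_pure (hpure : ∀ C ∈ irreducibleComponents (X : Type u), topologicalKrullDim C = 1) :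
    topologicalKrullDim X ≤ 1 := by
  refine iSup_le fun p => ?_
  obtain ⟨C, hC, hpC⟩ := exists_mem_irreducibleComponents_subset_of_isIrreducible _ p.last.isIrreducible
  have h1 := CurvLib.height_lt_of_subset (isClosed_of_mem_irreducibleComponents C hC) (d := 1)
    (by exact_mod_cast (hpure C hC).le) p.last hpC
  have h2 := lt_of_le_of_lt (Order.length_le_height (le_refl p.last)) h1
  have h3 : p.length < 2 := by exact_mod_cast h2
  exact_mod_cast (show p.length ≤ 1 by omega)

theorem defect {A B C : X.Modules} (ψ : A ⟶ B) (s : B ⟶ C) [Mono ψ] [Epi s] (h : ψ ≫ s = 0)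
    (hA : Coh.IsCoh A) (hB : Coh.IsCoh B) (hC : Coh.IsCoh C) :
    ∃ R : X.Modules, Coh.IsCoh R ∧ (∀ η, len B η = len A η + (len R η + len C η)) ∧
      Curv2.euler k X B = Curv2.euler k X A + (Curv2.euler k X R + Curv2.euler k X C) := by
  have hS₁ : (ShortComplex.mk ψ (cokernel.π ψ) (cokernel.condition ψ)).ShortExact :=
    { exact := ShortComplex.exact_of_g_is_cokernel _ (cokernelIsCokernel ψ) }
  haveI : Epi (cokernel.desc ψ s h) := by
    haveI : Epi (cokernel.π ψ ≫ cokernel.desc ψ s h) := by
      rw [cokernel.π_desc]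
      infer_instance
    exact epi_of_epi (cokernel.π ψ) (cokernel.desc ψ s h)
  have hS₂ : (ShortComplex.mk (kernel.ι (cokernel.desc ψ s h)) (cokernel.desc ψ s h)
      (kernel.condition _)).ShortExact :=
    { exact := ShortComplex.exact_of_f_is_kernel _ (kernelIsKernel _) }
  have hQ : Coh.IsCoh (cokernel ψ) := QCohLib.isCoh_cokernel ψ hA.1 hB
  have hR : Coh.IsCoh (kernel (cokernel.desc ψ s h)) := QCohLib.isCoh_kernel _ hQ hC.1
  refine ⟨_, hR, fun η => ?_, ?_⟩
  · exact (len_add hS₁ η).trans (congrArg (len A η + ·) (len_add hS₂ η))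
  · have a1 := CurvLib.euler_add_of_isCoh hS₁ (k := k) hA hB hQ
    have a2 := CurvLib.euler_add_of_isCoh hS₂ (k := k) hR hQ hC
    simp only at a1 a2
    rw [a1, a2]

/-- The inequality for unions and intersections. -/
theorem euler_union_meet (hd : topologicalKrullDim X ≤ 1) (hM : TFOne.IsTF1 X M) {Y Z W : Set X}
    (hW : ∀ η ∈ genericPoints X, η ∈ W ↔ η ∈ Y ∧ η ∈ Z) (hWY : W ⊆ Y) (hWZ : W ⊆ Z)
    {GY GZ GU GW : X.Modules} {πY : M ⟶ GY} {πZ : M ⟶ GZ} {πU : M ⟶ GU} {πW : M ⟶ GW}
    (hGY : TFOne.IsQuotOn X M Y GY πY) (hGZ : TFOne.IsQuotOn X M Z GZ πZ)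
    (hGU : TFOne.IsQuotOn X M (Y ∪ Z) GU πU) (hGW : TFOne.IsQuotOn X M W GW πW) :
    Curv2.euler k X GU + Curv2.euler k X GW ≤ Curv2.euler k X GY + Curv2.euler k X GZ := by
  classical
  obtain ⟨rY, hrY⟩ := exists_factor hM hGU hGY Set.subset_union_left
  obtain ⟨rZ, hrZ⟩ := exists_factor hM hGU hGZ Set.subset_union_right
  obtain ⟨sY, hsY⟩ := exists_factor hM hGY hGW hWY
  obtain ⟨sZ, hsZ⟩ := exists_factor hM hGZ hGW hWZ
  haveI := hGU.1
  haveI : Epi sY := by
    haveI : Epi (πY ≫ sY) := hsY ▸ hGW.1
    exact epi_of_epi πY sY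
  have hcomm : rY ≫ sY = rZ ≫ sZ := by
    rw [← cancel_epi πU, ← Category.assoc, ← Category.assoc, hrY, hrZ, hsY, hsZ]
  let ψ : GU ⟶ GY ⊞ GZ := biprod.lift rY rZ
  have hB := DevissLib.isCoh_biprod hGY.2.1 hGZ.2.1
  haveI : Mono ψ := mono_of_generic ψ hGU.2.1 hGU.2.2.1 hB.1 fun η hη u v huv => by
    have hc : ∀ {H : X.Modules} (p : GY ⊞ GZ ⟶ H) (r : GU ⟶ H), ψ ≫ p = r →
        ((St η).map r).hom u = ((St η).map r).hom v := fun p r e => by
      rw [← e, Functor.map_comp, ModuleCat.comp_apply, ModuleCat.comp_apply, huv]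
    obtain ⟨a, rfl⟩ := (ModuleCat.epi_iff_surjective ((St η).map πU)).mp inferInstance u
    obtain ⟨b, rfl⟩ := (ModuleCat.epi_iff_surjective ((St η).map πU)).mp inferInstance v
    by_cases h : η ∈ Y
    · refine congrArg _ (injective_quot hM hGY hη h ?_)
      rw [← hrY, Functor.map_comp, ModuleCat.comp_apply, ModuleCat.comp_apply]
      exact hc _ _ (biprod.lift_fst _ _)
    by_cases h' : η ∈ Z
    · refine congrArg _ (injective_quot hM hGZ hη h' ?_)
      rw [← hrZ, Functor.map_comp, ModuleCat.comp_apply, ModuleCat.comp_apply]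
      exact hc _ _ (biprod.lift_snd _ _)
    haveI : Subsingleton ((St η).obj GU) := not_not.mp fun hh => by
      have : η ∈ Y ∪ Z := hGU.2.2.2 ▸ (hh : η ∈ CohB1.support GU)
      exact this.elim h h'
    exact Subsingleton.elim _ _
  haveI : Epi (biprod.desc sY (-sZ)) := by
    haveI : Epi (biprod.inl ≫ biprod.desc sY (-sZ)) := by
      rw [biprod.inl_desc]
      infer_instance
    exact epi_of_epi biprod.inl (biprod.desc sY (-sZ))
  have h0 : ψ ≫ biprod.desc sY (-sZ) = 0 := by
    rw [show ψ = biprod.lift rY rZ from rfl, biprod.lift_desc, Preadditive.comp_neg, hcomm, add_neg_cancel]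
  obtain ⟨R, hR, e, a⟩ := defect (k := k) ψ (biprod.desc sY (-sZ)) h0 hGU.2.1 hB hGW.2.1
  have a3 : Curv2.euler k X (GY ⊞ GZ) = Curv2.euler k X GY + Curv2.euler k X GZ :=
    CurvLib.euler_add_of_isCoh (k := k)
      (S := ShortComplex.mk (biprod.inl : GY ⟶ GY ⊞ GZ) biprod.snd biprod.inl_snd)
      (ShortComplex.Splitting.ofHasBinaryBiproduct GY GZ).shortExact hGY.2.1 hB hGZ.2.1
  have hR0 : ∀ η ∈ genericPoints X, η ∉ CohB1.support R := fun η hη hs => by
    have e1 := e η
    rw [len_biprod, len_quot hM hGY hη, len_quot hM hGZ hη, len_quot hM hGU hη, len_quot hM hGW hη] at e1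
    exact hs (Module.length_eq_zero_iff.mp (arith _ _ _ (hW η hη) _ e1))
  have a4 := euler_nonneg_of_generic (k := k) hd hR hR0
  omega

end TFQuotLib

end
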