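import Groth.Agent.TFQuotLib.Basic
import Groth.Agent.AlgzCohLib.Basic
import Groth.Agent.CurvLib.StalkSum

/-!
# Endomorphisms of torsion free rank one sheaves
-/

set_option autoImplicit false
set_option linter.style.haveILetI false
set_option linter.unusedSectionVars false

universe u

open CategoryTheory CategoryTheory.Limits AlgebraicGeometry TopologicalSpace Opposite
open DevissLib IntMultLib

noncomputable section

namespace TFQuotLib

variable {X : Scheme.{u}}

/-- Scalars act on stalks through the structure map. -/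
theorem stalk_smulMod {k : Type u} [Field k] [X.Over (Spec (CommRingCat.of k))] (M : X.Modules) (c : k) (x : X)
    (v : (St x).obj M) :
    ((St x).map (Formal.smulMod k M c)).hom v = Curv2.stalkMap k X x c • v := by
  obtain ⟨U, hx, s, rfl⟩ := exists_gm_eq M x v
  refine (gm_app _ x hx s).trans ?_
  rw [show (Formal.smulMod k M c).app U s =
    (show Γ(X, U) from X.presheaf.map (homOfLE (le_top : U ≤ ⊤)).op
      (Coh.toGlobal (X ↘ Spec (CommRingCat.of k)) c)) • s from rfl, gm_smul, TopCat.Presheaf.germ_res_apply]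
  rfl

/-- The stalks of a rank one module at a generic point carry scalar endomorphisms only. -/
theorem exists_scalar {M : X.Modules} (hM : TFOne.IsTF1 X M) {η : X} (hη : η ∈ genericPoints X) (φ : M ⟶ M) :
    ∃ c : X.presheaf.stalk η, ∀ v, ((St η).map φ).hom v = c • v := by
  obtain ⟨e'⟩ := hM.2.2 η hη
  let e : (St η).obj M ≃ₗ[X.presheaf.stalk η] X.presheaf.stalk η := e'
  refine ⟨e (((St η).map φ).hom (e.symm 1)), fun v => e.injective ?_⟩
  rw [map_smul, smul_eq_mul]
  have hv : v = e v • e.symm 1 := e.injective (by rw [map_smul, e.apply_symm_apply, smul_eq_mul, mul_one])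
  conv_lhs => rw [hv]
  rw [map_smul, map_smul, smul_eq_mul, mul_comm]

variable {k : Type u} [Field k] [X.Over (Spec (CommRingCat.of k))]
  [AlgebraicGeometry.IsNoetherian X] [IsReduced X]

/-- A scalar equal to a given endomorphism at every generic point. -/
theorem eq_smulMod_of_generic {M : X.Modules} (hM : TFOne.IsTF1 X M) (φ : M ⟶ M) (c : k)
    (h : ∀ η ∈ genericPoints X, ∀ v, ((St η).map φ).hom v = Curv2.stalkMap k X η c • v) :
    φ = Formal.smulMod k M c := by
  rw [← sub_eq_zero]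
  refine eq_zero_of_generic _ hM.1.1 hM.1 hM.2.1 fun η hη => ?_
  rw [Functor.map_sub, sub_eq_zero]
  ext v
  exact (h η hη v).trans (stalk_smulMod M c η v).symm

/-- Gluing of simplicity along a common component. -/
theorem isSimple_of_common {M : X.Modules} (hM : TFOne.IsTF1 X M) {Y Z : Set X} (hcov : Y ∪ Z = Set.univ)
    {η₀ : X} (h₀ : η₀ ∈ genericPoints X) (hY₀ : η₀ ∈ Y) (hZ₀ : η₀ ∈ Z)
    {GY GZ : X.Modules} {πY : M ⟶ GY} {πZ : M ⟶ GZ}
    (hGY : TFOne.IsQuotOn X M Y GY πY) (hGZ : TFOne.IsQuotOn X M Z GZ πZ)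
    (hsY : TFOne.IsSimple X k (X ↘ Spec (CommRingCat.of k)) GY)
    (hsZ : TFOne.IsSimple X k (X ↘ Spec (CommRingCat.of k)) GZ) :
    TFOne.IsSimple X k (X ↘ Spec (CommRingCat.of k)) M := by
  refine ⟨fun h => ?_, ?_⟩
  · haveI := hGY.1
    exact hsY.1 (IsZero.of_epi πY h)
  intro φ
  have hstep : ∀ {T : Set X} {G : X.Modules} {π : M ⟶ G}, TFOne.IsQuotOn X M T G π →
      TFOne.IsSimple X k (X ↘ Spec (CommRingCat.of k)) G →
      ∃ c : k, ∀ η ∈ genericPoints X, η ∈ T → ∀ v, ((St η).map φ).hom v = Curv2.stalkMap k X η c • v := by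
    intro T G π hG hs
    haveI := hG.1
    haveI : Coh.IsQCoh M := hM.1.1
    haveI : Coh.IsQCoh G := hG.2.1.1
    have hinj : ∀ η ∈ genericPoints X, η ∈ T → Function.Injective ((St η).map π).hom :=
      fun η hη h => injective_quot hM hG hη h
    have h0 : kernel.ι π ≫ φ ≫ π = 0 := by
      refine eq_zero_of_generic _ (QCohLib.isQCoh_kernel π) hG.2.1 hG.2.2.1 fun η hη => ?_
      by_cases h : η ∈ T
      · ext v
        have hv : ((St η).map (kernel.ι π)).hom v = 0 := hinj η hη h (by
          rw [← ModuleCat.comp_apply, ← Functor.map_comp, kernel.condition, Functor.map_zero, map_zero]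
          rfl)
        rw [Functor.map_comp, ModuleCat.comp_apply, hv, map_zero]
        rfl
      · haveI : Subsingleton ((St η).obj G) :=
          not_not.mp fun hh => h (hG.2.2.2 ▸ (hh : η ∈ CohB1.support G))
        ext v
        exact Subsingleton.elim _ _
    obtain ⟨φ', hφ'⟩ : ∃ φ' : G ⟶ G, π ≫ φ' = φ ≫ π :=
      ⟨(Abelian.epiIsCokernelOfKernel _ (kernelIsKernel π)).desc (CokernelCofork.ofπ (φ ≫ π) h0),
        (Abelian.epiIsCokernelOfKernel _ (kernelIsKernel π)).fac (CokernelCofork.ofπ (φ ≫ π) h0)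
          WalkingParallelPair.one⟩
    obtain ⟨c, hc⟩ := hs.2 φ'
    refine ⟨c, fun η hη h v => hinj η hη h ?_⟩
    rw [map_smul, ← stalk_smulMod G c η, ← ModuleCat.comp_apply, ← Functor.map_comp, ← hφ', Functor.map_comp,
      ModuleCat.comp_apply]
    exact congrArg (fun ψ : G ⟶ G => ((St η).map ψ).hom (((St η).map π).hom v)) hc
  obtain ⟨c, hc⟩ := hstep hGY hsY
  obtain ⟨d, hd⟩ := hstep hGZ hsZ
  have hcd : c = d := by
    obtain ⟨e'⟩ := hM.2.2 η₀ h₀
    let e : (St η₀).obj M ≃ₗ[X.presheaf.stalk η₀] X.presheaf.stalk η₀ := e'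
    have h := congrArg e ((hc η₀ h₀ hY₀ (e.symm 1)).symm.trans (hd η₀ h₀ hZ₀ (e.symm 1)))
    rw [map_smul, map_smul, e.apply_symm_apply, smul_eq_mul, smul_eq_mul, mul_one, mul_one] at h
    exact (Curv2.stalkMap k X η₀).injective h
  refine ⟨c, eq_smulMod_of_generic hM φ c fun η hη v => ?_⟩
  rcases (hcov.ge (Set.mem_univ η) : η ∈ Y ∪ Z) with h | h
  · exact hc η hη h v
  · exact hcd ▸ hd η hη h v

end TFQuotLib

end
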