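import Groth.Prelude.Def_CurvBase
import Mathlib.AlgebraicGeometry.Geometrically.Integral
import Mathlib.AlgebraicGeometry.FunctionField
import Mathlib.AlgebraicGeometry.Pullbacks
import Mathlib.RingTheory.Flat.Basic
import Mathlib.LinearAlgebra.FreeModule.Finite.Matrix

/-!
# The ground field of a geometrically integral scheme is algebraically closed in the function field
-/

set_option autoImplicit false
set_option linter.style.haveILetI false
set_option linter.unusedSectionVars false

universe u

open CategoryTheory CategoryTheory.Limits AlgebraicGeometry TopologicalSpace Opposite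
open scoped TensorProduct

noncomputable section

namespace TFQuotLib

theorem isDomain_of_clear {A B : Type u} [CommRing A] [IsDomain A] [CommRing B] (j : A →+* B)
    (hj : Function.Injective j) (h : ∀ x : B, ∃ u : B, IsUnit u ∧ ∃ y, j y = u * x) : IsDomain B := by
  haveI := hj.nontrivial
  haveI : NoZeroDivisors B := ⟨fun {x y} hxy => by
    obtain ⟨u, hu, x', hx⟩ := h x
    obtain ⟨v, hv, y', hy⟩ := h y
    have h0 : j (x' * y') = j 0 := by rw [map_mul, map_zero, hx, hy, mul_mul_mul_comm, hxy, mul_zero]
    rcases mul_eq_zero.mp (hj h0) with h | h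
    · left
      rw [h, map_zero] at hx
      exact hu.mul_right_eq_zero.mp hx.symm
    · right
      rw [h, map_zero] at hy
      exact hv.mul_right_eq_zero.mp hy.symm⟩
  exact NoZeroDivisors.to_isDomain B

theorem finrank_le_of_domain {k A B : Type u} [Field k] [CommRing A] [IsDomain A] [Algebra k A] [Module.Finite k A]
    [CommRing B] [Nontrivial B] [Algebra k B] [Module.Finite k B] (f : A →ₐ[k] B) :
    Module.finrank k A ≤ Module.finrank k B := by
  haveI : Algebra.IsIntegral k A := Algebra.IsIntegral.of_finite k A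
  letI := (isField_of_isIntegral_of_isField' (R := k) (S := A) (Field.toIsField k)).toField
  exact LinearMap.finrank_le_finrank_of_injective (f := f.toLinearMap) f.toRingHom.injective

theorem mem_range_of_domain_tensor {k D K : Type u} [Field k] [CommRing D] [IsDomain D] [Field K]
    [Algebra k D] [Algebra k K] [Algebra D K] [IsScalarTower k D K] [IsFractionRing D K]
    (h : ∀ (L : Type u) [Field L] [Algebra k L] [Module.Finite k L], IsDomain (D ⊗[k] L))
    (c : K) (hc : IsIntegral k c) : c ∈ (algebraMap k K).range := by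
  let L := IntermediateField.adjoin k ({c} : Set K)
  haveI : FiniteDimensional k L := IntermediateField.adjoin.finiteDimensional hc
  haveI := h L
  let j : D ⊗[k] L →ₐ[k] K ⊗[k] L :=
    Algebra.TensorProduct.map (IsScalarTower.toAlgHom k D K) (AlgHom.id k L)
  have hj : Function.Injective j :=
    Module.Flat.rTensor_preserves_injective_linearMap (M := L) (IsScalarTower.toAlgHom k D K).toLinearMap
      (IsFractionRing.injective D K)
  have hfrac : ∀ x : K ⊗[k] L, ∃ d : D, d ≠ 0 ∧ ∃ y, j y = (algebraMap D K d ⊗ₜ[k] (1 : L)) * x := by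
    intro x
    induction x using TensorProduct.induction_on with
    | zero => exact ⟨1, one_ne_zero, 0, by rw [map_zero, mul_zero]⟩
    | tmul a l =>
      obtain ⟨n, d, hd, e⟩ := IsFractionRing.div_surjective D a
      refine ⟨d, nonZeroDivisors.ne_zero hd, n ⊗ₜ l, ?_⟩
      rw [Algebra.TensorProduct.map_tmul, Algebra.TensorProduct.tmul_mul_tmul, one_mul, ← e,
        mul_div_cancel₀ _ (IsFractionRing.to_map_ne_zero_of_mem_nonZeroDivisors hd)]
      rfl
    | add x y hx hy =>
      obtain ⟨d, hd, y₁, h₁⟩ := hx
      obtain ⟨d', hd', y₂, h₂⟩ := hy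
      refine ⟨d * d', mul_ne_zero hd hd', (d' ⊗ₜ 1) * y₁ + (d ⊗ₜ 1) * y₂, ?_⟩
      have e : ∀ a : D, j (a ⊗ₜ[k] (1 : L)) = algebraMap D K a ⊗ₜ[k] (1 : L) := fun a => rfl
      have e2 : (algebraMap D K (d * d') ⊗ₜ[k] (1 : L)) =
          (algebraMap D K d ⊗ₜ[k] (1 : L)) * (algebraMap D K d' ⊗ₜ[k] (1 : L)) := by
        rw [Algebra.TensorProduct.tmul_mul_tmul, map_mul, one_mul]
      rw [map_add, map_mul, map_mul, h₁, h₂, e, e, e2]
      ring
  haveI : IsDomain (K ⊗[k] L) := isDomain_of_clear (A := D ⊗[k] L) (B := K ⊗[k] L) j.toRingHom hj fun x => by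
    obtain ⟨d, hd, y, hy⟩ := hfrac x
    refine ⟨algebraMap D K d ⊗ₜ 1, ?_, y, hy⟩
    refine IsUnit.map (Algebra.TensorProduct.includeLeft : K →ₐ[k] K ⊗[k] L) ?_
    exact ((map_ne_zero_iff _ (IsFractionRing.injective D K)).mpr hd).isUnit
  let i : L ⊗[k] L →ₐ[k] K ⊗[k] L := Algebra.TensorProduct.map L.val (AlgHom.id k L)
  have hi : Function.Injective i :=
    Module.Flat.rTensor_preserves_injective_linearMap (M := L) L.val.toLinearMap L.val.injective
  haveI : IsDomain (L ⊗[k] L) := Function.Injective.isDomain i.toRingHom hi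
  have hle := finrank_le_of_domain (A := L ⊗[k] L) (B := L) (Algebra.TensorProduct.lmul' k)
  rw [Module.finrank_tensorProduct] at hle
  have hpos : 0 < Module.finrank k L := Module.finrank_pos
  have h1 : Module.finrank k L = 1 := by nlinarith
  rw [IntermediateField.finrank_adjoin_simple_eq_one_iff, IntermediateField.mem_bot] at h1
  exact h1

variable {k : Type u} [Field k] {C : Scheme.{u}} [C.Over (Spec (CommRingCat.of k))] [IsIntegral C]
  [GeometricallyIntegral (C ↘ Spec (CommRingCat.of k))]

/-- Elements of the function field integral over the ground field are scalars. -/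
theorem mem_range_stalkMap_of_isIntegral {c : C.functionField}
    (hc : (Curv2.stalkMap k C (genericPoint C)).IsIntegralElem c) :
    c ∈ (Curv2.stalkMap k C (genericPoint C)).range := by
  let q := C ↘ Spec (CommRingCat.of k)
  obtain ⟨U, hU, hmem, -⟩ := exists_isAffineOpen_mem_and_subset (Opens.mem_top (genericPoint C))
  haveI : Nonempty U := ⟨⟨_, hmem⟩⟩
  let σ : k →+* Γ(C, U) := (Coh.resTop C (op U)).comp (Coh.toGlobal q)
  have hσ : hU.fromSpec ≫ q = Spec.map (CommRingCat.ofHom σ) := by
    have h := IsAffineOpen.SpecMap_appLE_fromSpec q (isAffineOpen_top (Spec (CommRingCat.of k))) hU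
      (by rw [Scheme.Hom.preimage_top]; exact le_top)
    rw [← h, IsAffineOpen.fromSpec_top, Scheme.isoSpec_Spec_inv, ← Spec.map_comp]
    rfl
  letI : Algebra k Γ(C, U) := σ.toAlgebra
  letI : Algebra k C.functionField := (Curv2.stalkMap k C (genericPoint C)).toAlgebra
  haveI : IsScalarTower k Γ(C, U) C.functionField := IsScalarTower.of_algebraMap_eq fun a =>
    (TopCat.Presheaf.germ_res_apply C.presheaf (homOfLE (le_top : U ≤ ⊤)) (genericPoint C) hmem _).symm
  haveI := functionField_isFractionRing_of_isAffineOpen C U hU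
  refine mem_range_of_domain_tensor (D := Γ(C, U)) (fun L _ _ _ => ?_) c hc
  let g := Spec.map (CommRingCat.ofHom (algebraMap k L))
  let s := Spec.map (CommRingCat.ofHom (algebraMap k Γ(C, U)))
  let m : pullback s g ⟶ pullback q g := pullback.map _ _ _ _ hU.fromSpec (𝟙 _) (𝟙 _)
    (by rw [Category.comp_id]; exact hσ.symm) (by simp)
  haveI : IsIntegral (pullback q g) :=
    GeometricallyIntegral.geometrically_isIntegral g _ _ (IsPullback.of_hasPullback q g)
  haveI : IsOpenImmersion ((pullbackSpecIso k Γ(C, U) L).inv ≫ m) := inferInstance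
  haveI : Nontrivial (Γ(C, U) ⊗[k] L) :=
    (Algebra.TensorProduct.includeLeft_injective (S := k) (algebraMap k L).injective :
      Function.Injective (Algebra.TensorProduct.includeLeft : Γ(C, U) →ₐ[k] Γ(C, U) ⊗[k] L)).nontrivial
  haveI : IsIntegral (Spec (CommRingCat.of (Γ(C, U) ⊗[k] L))) :=
    isIntegral_of_isOpenImmersion ((pullbackSpecIso k Γ(C, U) L).inv ≫ m)
  exact (affine_isIntegral_iff (CommRingCat.of (Γ(C, U) ⊗[k] L))).mp inferInstance

end TFQuotLib

end
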