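import Groth.Agent.TFQuotLib.Push
import Groth.Agent.TFQuotLib.Regular
import Groth.Agent.VBPnLib.Basic

/-!
# Endomorphisms of torsion free rank one sheaves and decompositions
-/

set_option autoImplicit false
set_option linter.style.haveILetI false
set_option linter.unusedSectionVars false

universe u

open CategoryTheory CategoryTheory.Limits AlgebraicGeometry TopologicalSpace Opposite
open DevissLib IntMultLib

noncomputable section

namespace TFQuotLib

variable {X : Scheme.{u}}

theorem exists_asso_mem [IsLocallyNoetherian X] {M : X.Modules} (hM : Coh.IsCoh M) {x : X}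
    (hx : x ∈ CohB1.support M) (V : X.Opens) (hV : x ∈ V) : ∃ η ∈ V, DevissLib.Asso M η := by
  have : Coh.IsQCoh M := hM.1
  obtain ⟨U, hU, hxU, hUV⟩ := exists_isAffineOpen_mem_and_subset hV
  have : IsNoetherianRing Γ(X, U) := IsLocallyNoetherian.component_noetherian ⟨U, hU⟩
  have : Nontrivial Γ(M, U) := by
    by_contra h
    rw [not_nontrivial_iff_subsingleton] at h
    have := (QCohLib.mem_support_iff hU hxU).mpr hx
    rw [Module.support_eq_empty] at this
    exact this
  obtain ⟨p, hp⟩ := associatedPrimes.nonempty Γ(X, U) Γ(M, U)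
  obtain ⟨hprime, s, hs⟩ := isAssociatedPrime_iff.mp hp
  have hs' : ∀ a, a ∈ p ↔ a • s = 0 := fun a => by
    rw [hs, Submodule.mem_colon_singleton, Submodule.mem_bot]
  let q : PrimeSpectrum Γ(X, U) := ⟨p, hprime⟩
  have hyU : hU.fromSpec q ∈ U := by
    have : hU.fromSpec q ∈ Set.range hU.fromSpec := ⟨q, rfl⟩
    rwa [hU.range_fromSpec] at this
  have hq : hU.primeIdealOf ⟨hU.fromSpec q, hyU⟩ = q :=
    hU.fromSpec.isOpenEmbedding.injective (hU.fromSpec_primeIdealOf ⟨_, hyU⟩)
  refine ⟨hU.fromSpec q, hUV hyU, gm M _ hyU s, fun h => ?_, maximalIdeal_smul_gm hU _ hyU s fun a ha => ?_⟩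
  · obtain ⟨r, hr, hrs⟩ := (gm_eq_zero_iff hU _ hyU s).mp h
    rw [hq] at hr
    exact hr ((hs' r).mpr hrs)
  · rw [hq] at ha
    rw [(hs' a).mp ha, gm_zero]

theorem torsionFree_sub {A M : X.Modules} (φ : A ⟶ M) [Mono φ] (hM : TorSh.IsTorsionFree M) :
    TorSh.IsTorsionFree A := fun x =>
  haveI : Module.IsTorsionFree (X.presheaf.stalk x) ((St x).obj M) := hM x
  Function.Injective.moduleIsTorsionFree ((St x).map φ).hom
    ((ModuleCat.mono_iff_injective _).mp inferInstance) (fun c a => map_smul _ c a)

variable [AlgebraicGeometry.IsNoetherian X] [IsReduced X]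

theorem isField_stalk_generic {η : X} (hη : η ∈ genericPoints X) : IsField (X.presheaf.stalk η) := by
  have : Ring.KrullDimLE 0 (X.presheaf.stalk η) := by
    refine Ring.krullDimLE_zero_iff.mpr fun q hq => ?_
    have hz : X.fromSpecStalk η ⟨q, hq⟩ = η := eq_of_specializes_generic hη (by
      have : X.fromSpecStalk η ⟨q, hq⟩ ∈ Set.range (X.fromSpecStalk η) := ⟨_, rfl⟩
      rwa [Scheme.range_fromSpecStalk] at this)
    have : (⟨q, hq⟩ : PrimeSpectrum (X.presheaf.stalk η)) = IsLocalRing.closedPoint _ :=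
      (X.fromSpecStalk η).isEmbedding.injective (hz.trans Scheme.fromSpecStalk_closedPoint.symm)
    rw [show q = IsLocalRing.maximalIdeal _ from congrArg PrimeSpectrum.asIdeal this]
    exact IsLocalRing.maximalIdeal.isMaximal _
  exact Ring.KrullDimLE.isField_of_isReduced

/-- The image of an endomorphism which is generically the projection to `Y`. -/
theorem isQuotOn_image {M : X.Modules} (hM : TFOne.IsTF1 X M) (e : M ⟶ M) {Y : Set X} (hY : IsClosed Y)
    (hYg : ∀ x ∈ Y, ∃ η ∈ genericPoints X, η ∈ Y ∧ η ⤳ x)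
    (h1 : ∀ η ∈ genericPoints X, η ∈ Y → ∀ v, ((St η).map e).hom v = v)
    (h0 : ∀ η ∈ genericPoints X, η ∉ Y → ∀ v, ((St η).map e).hom v = 0) :
    TFOne.IsQuotOn X M Y (Abelian.image e) (Abelian.factorThruImage e) := by
  haveI := hM.1.1
  haveI : Coh.IsQCoh (cokernel e) := QCohLib.isQCoh_cokernel e
  have hI : Coh.IsCoh (Abelian.image e) := QCohLib.isCoh_kernel _ hM.1 inferInstance
  refine ⟨inferInstance, hI, torsionFree_sub (Abelian.image.ι e) hM.2.1,
    Set.Subset.antisymm (fun x hx => ?_) fun x hx => ?_⟩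
  · by_contra hxY
    obtain ⟨η, hηV, hη⟩ := exists_asso_mem hI hx ⟨Yᶜ, hY.isOpen_compl⟩ hxY
    have hg := asso_generic hM.2.1 (Abelian.image.ι e) hη
    obtain ⟨v, hv⟩ := (mem_support_iff_nonzero _ η).mp hη.mem_support
    obtain ⟨w, hw⟩ :=
      (ModuleCat.epi_iff_surjective ((St η).map (Abelian.factorThruImage e))).mp inferInstance v
    have hi : Function.Injective ((St η).map (Abelian.image.ι e)).hom :=
      (ModuleCat.mono_iff_injective _).mp inferInstance
    refine hv (hi ?_)
    rw [← hw, ← ModuleCat.comp_apply, ← Functor.map_comp, Abelian.image.fac, h0 η hg hηV, map_zero]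
  · obtain ⟨η, hg, hηY, hs⟩ := hYg x hx
    refine hs.mem_closed (QCohLib.isClosed_support _ hI.2) ?_
    obtain ⟨e'⟩ := hM.2.2 η hg
    let E : (St η).obj M ≃ₗ[X.presheaf.stalk η] X.presheaf.stalk η := e'
    refine (mem_support_iff_nonzero _ η).mpr ⟨((St η).map (Abelian.factorThruImage e)).hom (E.symm 1),
      fun h => one_ne_zero (E.symm.injective (?_ : E.symm 1 = E.symm 0))⟩
    have h2 := congrArg ((St η).map (Abelian.image.ι e)).hom h
    rw [← ModuleCat.comp_apply, ← Functor.map_comp, Abelian.image.fac, h1 η hg hηY, map_zero] at h2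
    rw [map_zero E.symm]
    exact h2

omit [AlgebraicGeometry.IsNoetherian X] [IsReduced X] in
theorem isIso_lift_of_idem {M : X.Modules} (e : M ⟶ M) (he : e ≫ e = e) :
    IsIso (biprod.lift (Abelian.factorThruImage e) (Abelian.factorThruImage (𝟙 M - e))) := by
  refine ⟨biprod.desc (Abelian.image.ι e) (Abelian.image.ι (𝟙 M - e)), ?_, ?_⟩
  · rw [biprod.lift_desc, Abelian.image.fac, Abelian.image.fac, add_sub_cancel]
  have hc : ∀ a b d : M ⟶ M, a ≫ b = d → (Abelian.factorThruImage a ≫
      (Abelian.image.ι a ≫ Abelian.factorThruImage b) ≫ Abelian.image.ι b = d) := fun a b d h => by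
    rw [Category.assoc, Abelian.image.fac, ← Category.assoc, Abelian.image.fac, h]
  have hself : ∀ a : M ⟶ M, a ≫ a = a → Abelian.image.ι a ≫ Abelian.factorThruImage a = 𝟙 _ := fun a h => by
    rw [← cancel_mono (Abelian.image.ι a), ← cancel_epi (Abelian.factorThruImage a), hc _ _ _ h, Category.id_comp,
      Abelian.image.fac]
  have hzero : ∀ a b : M ⟶ M, a ≫ b = 0 → Abelian.image.ι a ≫ Abelian.factorThruImage b = 0 := fun a b h => by
    rw [← cancel_mono (Abelian.image.ι b), ← cancel_epi (Abelian.factorThruImage a), hc _ _ _ h, zero_comp,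
      comp_zero]
  refine biprod.hom_ext' _ _ (biprod.hom_ext _ _ ?_ ?_) (biprod.hom_ext _ _ ?_ ?_)
  all_goals
    simp only [Category.comp_id, Category.assoc, biprod.lift_fst, biprod.lift_snd, biprod.inl_desc_assoc,
      biprod.inr_desc_assoc, biprod.inl_fst, biprod.inl_snd, biprod.inr_fst, biprod.inr_snd]
  · exact hself _ he
  · exact hzero _ _ (by rw [Preadditive.comp_sub, Category.comp_id, he, sub_self])
  · exact hzero _ _ (by rw [Preadditive.sub_comp, Category.id_comp, he, sub_self])
  · refine hself _ ?_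
    rw [Preadditive.sub_comp, Preadditive.comp_sub, Preadditive.comp_sub, Category.id_comp, Category.id_comp,
      Category.comp_id, he, sub_self, sub_zero]

variable {k : Type u} [Field k] [X.Over (Spec (CommRingCat.of k))]

theorem finite_end [IsProper (X ↘ Spec (CommRingCat.of k))] {M : X.Modules} (hM : Coh.IsCoh M) :
    Module.Finite k (M ⟶ M) := by
  haveI := CurvLib.isNoetherian k (X := X)
  have hc : Coh.IsCoh (CohCmpLib.homMod M M) := HomCohLib.isCoh_homMod hM hM
  haveI := CurvLib.finite_HH (k := k) hc 0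
  haveI : Module.Finite k (Coh.structureModule X ⟶ CohCmpLib.homMod M M) :=
    Module.Finite.equiv (GenusOneSSLib.homEquiv (k := k) _).symm
  exact Module.Finite.of_surjective (VBPnLib.shL (k := k) M M) (VBPnLib.shL_surjective M M)

/-- The scalar of an endomorphism at a generic point, as an algebra homomorphism. -/
theorem exists_genScalar {M : X.Modules} (hM : TFOne.IsTF1 X M) {η : X} (hη : η ∈ genericPoints X) :
    letI : Algebra k (X.presheaf.stalk η) := (Curv2.stalkMap k X η).toAlgebra
    ∃ Λ : End M →ₐ[k] X.presheaf.stalk η, ∀ (ψ : End M) v, ((St η).map ψ).hom v = Λ ψ • v := by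
  letI : Algebra k (X.presheaf.stalk η) := (Curv2.stalkMap k X η).toAlgebra
  choose Λ hΛ using exists_scalar hM hη
  obtain ⟨e'⟩ := hM.2.2 η hη
  let E : (St η).obj M ≃ₗ[X.presheaf.stalk η] X.presheaf.stalk η := e'
  have huniq : ∀ (ψ : End M) c, (∀ v, ((St η).map ψ).hom v = c • v) → Λ ψ = c := fun ψ c h => by
    have := congrArg E ((hΛ ψ (E.symm 1)).symm.trans (h (E.symm 1)))
    rwa [map_smul, map_smul, E.apply_symm_apply, smul_eq_mul, smul_eq_mul, mul_one, mul_one] at this
  refine ⟨{ toFun := Λ
            map_one' := huniq _ _ fun v => ?_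
            map_mul' := fun f g => huniq _ _ fun v => ?_
            map_zero' := huniq _ _ fun v => ?_
            map_add' := fun f g => huniq _ _ fun v => ?_
            commutes' := fun r => huniq _ _ fun v => ?_ }, hΛ⟩
  · rw [End.one_def, CategoryTheory.Functor.map_id, one_smul]
    rfl
  · rw [End.mul_def, Functor.map_comp, ModuleCat.comp_apply, hΛ, hΛ, smul_smul]
  · rw [Functor.map_zero, zero_smul]
    rfl
  · rw [Functor.map_add, add_smul, ← hΛ, ← hΛ]
    rfl
  · rw [Algebra.algebraMap_eq_smul_one]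
    exact (congrArg (fun t : M ⟶ M => ((St η).map t).hom v) (KLin.smul_id M r)).trans (stalk_smulMod M r η v)

theorem mem_range_of_integral_aux {C : Scheme.{u}} (i : C ⟶ X) [IsClosedImmersion i]
    [C.Over (Spec (CommRingCat.of k))] (hi : i ≫ (X ↘ Spec (CommRingCat.of k)) = C ↘ Spec (CommRingCat.of k))
    [GeometricallyIntegral (C ↘ Spec (CommRingCat.of k))] [IsIntegral C] {η : X} (hη : η ∈ genericPoints X)
    (z : C) (hz : i z = η) {c : X.presheaf.stalk η} (hc : (Curv2.stalkMap k X η).IsIntegralElem c) :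
    c ∈ (Curv2.stalkMap k X η).range := by
  subst hz
  obtain rfl : genericPoint C = z :=
    eq_of_specializes_generic (generic_of_map i hη) ((genericPoint_spec C).specializes trivial)
  have hF : IsField (X.presheaf.stalk (i (genericPoint C))) := isField_stalk_generic hη
  have hcomp : ∀ a : k, i.stalkMap (genericPoint C) (Curv2.stalkMap k X (i (genericPoint C)) a) =
      Curv2.stalkMap k C (genericPoint C) a := fun a => by
    refine (Scheme.Hom.germ_stalkMap_apply i ⊤ (genericPoint C) trivial _).trans ?_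
    show C.presheaf.germ ⊤ (genericPoint C) trivial (i.appTop (Coh.toGlobal (X ↘ Spec (CommRingCat.of k)) a)) = _
    rw [← KLin.toGlobal_comp, hi]
    rfl
  have hinj : Function.Injective (i.stalkMap (genericPoint C)) := by
    letI := hF.toField
    exact (i.stalkMap (genericPoint C)).hom.injective
  obtain ⟨p, hp, hpc⟩ := hc
  obtain ⟨a, ha⟩ := mem_range_stalkMap_of_isIntegral (C := C) (c := i.stalkMap (genericPoint C) c) ⟨p, hp, by
    have e : (i.stalkMap (genericPoint C)).hom.comp (Curv2.stalkMap k X (i (genericPoint C))) =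
        Curv2.stalkMap k C (genericPoint C) := RingHom.ext hcomp
    rw [← e]
    exact (Polynomial.hom_eval₂ p _ (i.stalkMap (genericPoint C)).hom c).symm.trans
      ((congrArg _ hpc).trans (map_zero _))⟩
  exact ⟨a, hinj ((hcomp a).trans ha)⟩

/-- Integral elements of the stalk at a generic point of a geometrically integral component are scalars. -/
theorem mem_range_of_integral {η : X} (hη : η ∈ genericPoints X)
    (hg : GeometricallyIntegral (VecSt.subschι X (closure {η}) isClosed_closure ≫ (X ↘ Spec (CommRingCat.of k))))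
    {c : X.presheaf.stalk η} (hc : (Curv2.stalkMap k X η).IsIntegralElem c) :
    c ∈ (Curv2.stalkMap k X η).range := by
  let C := VecSt.subsch X (closure {η}) isClosed_closure
  let i : C ⟶ X := VecSt.subschι X (closure {η}) isClosed_closure
  letI : C.Over (Spec (CommRingCat.of k)) := ⟨i ≫ (X ↘ Spec (CommRingCat.of k))⟩
  haveI : GeometricallyIntegral (C ↘ Spec (CommRingCat.of k)) := hg
  haveI : IsIntegral C := GeometricallyIntegral.isIntegral_of_subsingleton (C ↘ Spec (CommRingCat.of k))
  obtain ⟨z, hz⟩ : η ∈ Set.range ⇑i :=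
    (Scheme.IdealSheafData.range_subschemeι _).ge (subset_closure rfl)
  exact mem_range_of_integral_aux i rfl hη z hz hc

/-- Endomorphisms are scalars on every component. -/
theorem exists_scalar_component [IsProper (X ↘ Spec (CommRingCat.of k))] {M : X.Modules} (hM : TFOne.IsTF1 X M)
    {η : X} (hη : η ∈ genericPoints X)
    (hg : GeometricallyIntegral (VecSt.subschι X (closure {η}) isClosed_closure ≫ (X ↘ Spec (CommRingCat.of k))))
    (φ : M ⟶ M) : ∃ a : k, ∀ P : Polynomial k, ∀ v,
      ((St η).map (Polynomial.aeval (show End M from φ) P)).hom v = Curv2.stalkMap k X η (P.eval a) • v := by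
  letI : Algebra k (X.presheaf.stalk η) := (Curv2.stalkMap k X η).toAlgebra
  haveI : Module.Finite k (End M) := finite_end (k := k) hM.1
  obtain ⟨Λ, hΛ⟩ := exists_genScalar (k := k) hM hη
  obtain ⟨a, ha⟩ := mem_range_of_integral hη hg
    ((IsIntegral.of_finite k (show End M from φ)).map Λ)
  refine ⟨a, fun P v => (hΛ _ v).trans ?_⟩
  rw [← Polynomial.aeval_algHom_apply, ← ha]
  exact congrArg (· • v) (Polynomial.aeval_algebraMap_apply_eq_algebraMap_eval a P)

end TFQuotLib

end
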