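import Groth.Agent.TFQuotLib.Push

/-!
# Scalars
-/

set_option autoImplicit false
set_option linter.style.haveILetI false
set_option linter.unusedSectionVars false

universe u

open CategoryTheory CategoryTheory.Limits AlgebraicGeometry TopologicalSpace Opposite

noncomputable section

namespace TFQuotLib

variable {X : Scheme.{u}} {k : Type u} [Field k] [X.Over (Spec (CommRingCat.of k))]

theorem smul_comp (M : X.Modules) (c d : k) :
    Formal.smulMod k M c ≫ Formal.smulMod k M d = Formal.smulMod k M (d * c) :=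
  Scheme.Modules.hom_ext _ _ fun U => ConcreteCategory.hom_ext _ _ fun m => by
    refine ((Formal2VBLib.app_smulModΓ M _ U _).trans (congrArg _ (Formal2VBLib.app_smulModΓ M _ U m))).trans
      ((smul_smul _ _ _).trans ?_)
    refine Eq.trans ?_ (Formal2VBLib.app_smulModΓ M _ U m).symm
    rw [map_mul (Coh.toGlobal (X ↘ Spec (CommRingCat.of k))), ← map_mul]
    rfl

theorem smul_one' (M : X.Modules) : Formal.smulMod k M 1 = 𝟙 M :=
  Scheme.Modules.hom_ext _ _ fun U => ConcreteCategory.hom_ext _ _ fun m => by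
    refine (Formal2VBLib.app_smulModΓ M _ U m).trans ?_
    rw [map_one (Coh.toGlobal (X ↘ Spec (CommRingCat.of k)))]
    exact (congrArg (fun t : Γ(X, U) => t • m) (map_one (X.presheaf.map (homOfLE (le_top : U ≤ ⊤)).op).hom)).trans
      (one_smul Γ(X, U) m)

theorem smul_zero' (M : X.Modules) : Formal.smulMod k M 0 = 0 :=
  Scheme.Modules.hom_ext _ _ fun U => ConcreteCategory.hom_ext _ _ fun m => by
    refine (Formal2VBLib.app_smulModΓ M _ U m).trans ?_
    rw [map_zero (Coh.toGlobal (X ↘ Spec (CommRingCat.of k)))]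
    exact (congrArg (fun t : Γ(X, U) => t • m) (map_zero (X.presheaf.map (homOfLE (le_top : U ≤ ⊤)).op).hom)).trans
      (zero_smul Γ(X, U) m)

theorem smul_inv_comp (M : X.Modules) {c : k} (h : c ≠ 0) :
    Formal.smulMod k M c⁻¹ ≫ Formal.smulMod k M c = 𝟙 M := by
  rw [smul_comp, mul_inv_cancel₀ h, smul_one']

theorem smul_eq_zero' {M : X.Modules} (hM : ¬ IsZero M) {c : k} (h : Formal.smulMod k M c = 0) : c = 0 := by
  by_contra hc
  refine hM ((IsZero.iff_id_eq_zero M).mpr ?_)
  rw [← smul_inv_comp M hc, h, comp_zero]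

variable {Z : Scheme.{u}} (i : Z ⟶ X) [IsClosedImmersion i] [Z.Over (Spec (CommRingCat.of k))]

/-- Simplicity of a direct image. -/
theorem exists_scalar_push (hi : i ≫ (X ↘ Spec (CommRingCat.of k)) = Z ↘ Spec (CommRingCat.of k)) {G : Z.Modules}
    (h : ∀ φ : G ⟶ G, ∃ c : k, φ = Formal.smulMod k G c) (φ : (Coh.push i).obj G ⟶ (Coh.push i).obj G) :
    ∃ c : k, φ = Formal.smulMod k ((Coh.push i).obj G) c := by
  haveI : IsIso (Scheme.Modules.pullbackPushforwardAdjunction i).counit := by
    haveI : ∀ G, IsIso ((Scheme.Modules.pullbackPushforwardAdjunction i).counit.app G) :=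
      CycKSuppLib.isIso_counit i
    exact NatIso.isIso_of_isIso_app _
  let F := (Scheme.Modules.pullbackPushforwardAdjunction i).fullyFaithfulROfIsIsoCounit
  obtain ⟨c, hc⟩ := h (F.preimage φ)
  refine ⟨c, (F.map_preimage φ).symm.trans ?_⟩
  rw [hc]
  exact FormalPullLib.pushforward_smulMod i hi G c

theorem not_isZero_push {G : Z.Modules} (h : ¬ IsZero G) : ¬ IsZero ((Coh.push i).obj G) := by
  rw [IsZero.iff_id_eq_zero] at h ⊢
  exact fun h0 => h ((Scheme.Modules.pushforward i).map_injective
    (((Scheme.Modules.pushforward i).map_id G).trans (h0.trans ((Scheme.Modules.pushforward i).map_zero G G).symm)))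

end TFQuotLib

end
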