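import Groth.Agent.TFQuotLib.Simple
import Groth.Agent.CycKSuppLib.Killed
import Groth.Agent.FormalPullLib.Basic

/-!
# Direct images of torsion free modules along subcurves
-/

set_option autoImplicit false
set_option linter.style.haveILetI false
set_option linter.unusedSectionVars false

universe u

open CategoryTheory CategoryTheory.Limits AlgebraicGeometry TopologicalSpace Opposite
open DevissLib IntMultLib
open scoped TensorProduct

noncomputable section

namespace TFQuotLib

variable {X Z : Scheme.{u}} (i : Z ⟶ X) [IsClosedImmersion i]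

theorem one_tmul_smul {A B M : Type u} [CommRing A] [CommRing B] [Algebra A B] [AddCommGroup M] [Module A M]
    (r : A) (m : M) : (1 : B) ⊗ₜ[A] (r • m) = algebraMap A B r • (1 : B) ⊗ₜ[A] m := by
  rw [TensorProduct.smul_tmul', smul_eq_mul, mul_one, ← TensorProduct.smul_tmul, Algebra.smul_def, mul_one]

/-- The stalk of a direct image. -/
theorem exists_stalkEquiv (G : Z.Modules) (z : Z) :
    ∃ e : (St (i z)).obj ((Coh.push i).obj G) → (St z).obj G, Function.Bijective e ∧ e 0 = 0 ∧
      ∀ r m, e (r • m) = i.stalkMap z r • e m := by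
  let ψ : (St z).obj ((Scheme.Modules.pullback i).obj ((Coh.push i).obj G)) ⟶ (St z).obj G :=
    (St z).map (CycKSuppLib.pullPushIso i G).hom
  let := (i.stalkMap z).hom.toAlgebra
  refine ⟨fun m => ψ.hom (((KFlatLib.stalkPullIso i z).inv.app ((Coh.push i).obj G)).hom
    ((1 : Z.presheaf.stalk z) ⊗ₜ[X.presheaf.stalk (i z)] m)),
    (ConcreteCategory.bijective_of_isIso ψ).comp
      (DevissLib.bijective_stalk_puSec i (CycKSuppLib.killed_push i G) z), ?_, fun r m => ?_⟩
  · show ψ.hom _ = 0
    rw [TensorProduct.tmul_zero]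
    exact (congrArg ψ.hom (map_zero _)).trans (map_zero _)
  · dsimp only
    refine Eq.trans ?_ (map_smul ψ.hom _ _)
    refine congrArg ψ.hom (Eq.trans ?_ (map_smul _ _ _))
    refine congrArg _ ?_
    exact one_tmul_smul (B := Z.presheaf.stalk z) r m

theorem asso_of_push {G : Z.Modules} {z : Z} (h : Asso ((Coh.push i).obj G) (i z)) : Asso G z := by
  obtain ⟨e, hb, h0, hs⟩ := exists_stalkEquiv i G z
  obtain ⟨a, ha, hk⟩ := h
  refine ⟨e a, fun h => ha (hb.1 (h.trans h0.symm)), fun r hr => ?_⟩
  obtain ⟨r, rfl⟩ := i.stalkMap_surjective z r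
  rw [← hs, hk r ((IsLocalRing.mem_maximalIdeal _).mpr fun hu =>
    (IsLocalRing.mem_maximalIdeal _).mp hr (hu.map _)), h0]

theorem mem_support_push {G : Z.Modules} {z : Z} (h : z ∈ CohB1.support G) :
    i z ∈ CohB1.support ((Coh.push i).obj G) := by
  obtain ⟨e, hb, h0, -⟩ := exists_stalkEquiv i G z
  obtain ⟨v, hv⟩ := (mem_support_iff_nonzero _ z).mp h
  obtain ⟨a, rfl⟩ := hb.2 v
  exact (mem_support_iff_nonzero _ _).mpr ⟨a, fun h => hv (h ▸ h0)⟩

variable [AlgebraicGeometry.IsNoetherian X] [IsReduced X] [IsReduced Z]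

omit [IsReduced X] [IsReduced Z] in
/-- A morphism to a coherent module with generic associated points vanishing generically vanishes. -/
theorem eq_zero_of_asso {A G : X.Modules} (φ : A ⟶ G) (hA : Coh.IsQCoh A) (hG : Coh.IsCoh G)
    (hG' : ∀ η, Asso G η → η ∈ genericPoints X) (h : ∀ η ∈ genericPoints X, (St η).map φ = 0) : φ = 0 := by
  haveI := hG.1
  haveI := hA
  haveI : Coh.IsQCoh (cokernel φ) := QCohLib.isQCoh_cokernel φ
  have hI : Coh.IsCoh (image φ) := QCohLib.isCoh_of_iso (Abelian.imageIsoImage φ)
    (QCohLib.isCoh_kernel _ hG inferInstance)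
  have h0 : IsZero (image φ) := by
    refine isZero_of_support_empty (Set.eq_empty_of_forall_notMem fun x hx => ?_)
    obtain ⟨η, hη⟩ := DevissLib.exists_asso hI hx
    obtain ⟨v, hv⟩ := (mem_support_iff_nonzero _ η).mp hη.mem_support
    obtain ⟨w, hw⟩ := (ModuleCat.epi_iff_surjective ((St η).map (factorThruImage φ))).mp inferInstance v
    have hi : Function.Injective ((St η).map (image.ι φ)).hom :=
      (ModuleCat.mono_iff_injective _).mp inferInstance
    refine hv (hi ?_)
    rw [← hw, ← ModuleCat.comp_apply, ← Functor.map_comp, image.fac,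
      h η (hG' η (hη.of_mono (image.ι φ))), map_zero]
    rfl
  rw [← image.fac φ, h0.eq_of_tgt (factorThruImage φ) 0, zero_comp]

variable (hgen : ∀ z, z ∈ genericPoints Z → i z ∈ genericPoints X)

include hgen in
theorem asso_push_generic {G : Z.Modules} (hG : TorSh.IsTorsionFree G) {η : X}
    (h : Asso ((Coh.push i).obj G) η) : η ∈ genericPoints X := by
  haveI : IsLocallyNoetherian Z := LocallyOfFiniteType.isLocallyNoetherian i
  haveI : CompactSpace Z := QuasiCompact.compactSpace_of_compactSpace i
  haveI : AlgebraicGeometry.IsNoetherian Z := {}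
  obtain ⟨z, rfl⟩ := DevissLib.support_push_subset i G h.mem_support
  exact hgen z (asso_generic hG (𝟙 G) (asso_of_push i h))

include hgen in
/-- Morphisms to a direct image from a module supported away from it generically. -/
theorem hom_push_eq_zero {G : Z.Modules} (hG : Coh.IsCoh G) (htf : TorSh.IsTorsionFree G) {A : X.Modules}
    (hA : Coh.IsQCoh A)
    (h : ∀ η ∈ genericPoints X, η ∈ Set.range ⇑i → η ∉ CohB1.support A)
    (φ : A ⟶ (Coh.push i).obj G) : φ = 0 := by
  refine eq_zero_of_asso φ hA (QCohLib.isCoh_push_finite i G hG) (fun η hη => asso_push_generic i hgen htf hη)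
    fun η hη => ?_
  ext v
  by_cases hr : η ∈ Set.range ⇑i
  · haveI : Subsingleton ((St η).obj A) := not_not.mp fun hh => h η hη hr hh
    rw [Subsingleton.elim v 0, map_zero, map_zero]
  · haveI : Subsingleton ((St η).obj ((Coh.push i).obj G)) :=
      not_not.mp fun hh => hr (DevissLib.support_push_subset i G hh)
    exact Subsingleton.elim _ _

omit [AlgebraicGeometry.IsNoetherian X] [IsReduced X] [IsReduced Z] in
theorem generic_of_map {z : Z} (h : i z ∈ genericPoints X) : z ∈ genericPoints Z :=
  mem_genericPoints fun _ hz => i.isClosedEmbedding.injective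
    (eq_of_specializes_generic h (hz.map i.continuous))

omit [AlgebraicGeometry.IsNoetherian X] [IsReduced X] [IsReduced Z] in
/-- Generic points of a union of components are generic. -/
theorem map_generic {S : Set (Set X)} (hS : S ⊆ irreducibleComponents X) (hr : Set.range ⇑i = ⋃₀ S) {z : Z}
    (hz : z ∈ genericPoints Z) : i z ∈ genericPoints X := by
  obtain ⟨C, hCS, hzC⟩ := hr.le ⟨z, rfl⟩
  have hC := hS hCS
  have hg := hC.1.isGenericPoint_genericPoint (isClosed_of_mem_irreducibleComponents C hC)
  obtain ⟨z', hz'⟩ := hr.ge ⟨C, hCS, hg.mem⟩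
  have hs : z' ⤳ z := i.isClosedEmbedding.isInducing.specializes_iff.mp (hz' ▸ hg.specializes hzC)
  rw [← eq_of_specializes_generic hz hs, hz']
  show closure {hC.1.genericPoint} ∈ irreducibleComponents X
  rw [hg.def]
  exact hC

end TFQuotLib

end
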